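import Cfsg.Agent.FormDiscr.Basic

/-!
Block sums inside symplectic groups and 2-subgroups of large derived length.
-/

set_option autoImplicit false

namespace CfsgLib.SpSum

open Matrix
open scoped commutatorElement

variable {R : Type*} [CommRing R] {l l' m : Type} [Fintype l] [DecidableEq l] [Fintype l'] [DecidableEq l']
  [Fintype m] [DecidableEq m]

/-- The index shuffle for the orthogonal sum of two alternating forms. -/
def shuffle (e : l ⊕ l' ≃ m) : (l ⊕ l) ⊕ (l' ⊕ l') ≃ m ⊕ m :=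
  (Equiv.sumSumSumComm l l l' l').trans (Equiv.sumCongr e e)

theorem J_reindex (e : l ⊕ l' ≃ m) :
    Matrix.J m R = reindexAlgEquiv R R (shuffle e) (fromBlocks (Matrix.J l R) 0 0 (Matrix.J l' R)) := by
  ext i j
  obtain ⟨i, rfl⟩ := (shuffle e).surjective i
  obtain ⟨j, rfl⟩ := (shuffle e).surjective j
  rw [coe_reindexAlgEquiv, reindex_apply, submatrix_apply, Equiv.symm_apply_apply, Equiv.symm_apply_apply]
  rcases i with (i | i) | (i | i) <;> rcases j with (j | j) | (j | j) <;>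
    simp [shuffle, Matrix.J, Matrix.one_apply]

theorem reindex_mem (e : l ⊕ l' ≃ m) {M : Matrix ((l ⊕ l) ⊕ (l' ⊕ l')) ((l ⊕ l) ⊕ (l' ⊕ l')) R}
    (h : M * fromBlocks (Matrix.J l R) 0 0 (Matrix.J l' R) * Mᵀ = fromBlocks (Matrix.J l R) 0 0 (Matrix.J l' R)) :
    reindexAlgEquiv R R (shuffle e) M ∈ Matrix.symplecticGroup m R := by
  rw [SymplecticGroup.mem_iff, J_reindex e, coe_reindexAlgEquiv, transpose_reindex, ← coe_reindexAlgEquiv R R,
    ← map_mul, ← map_mul, h]

/-- The block sum of two symplectic matrices. -/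
noncomputable def blk (e : l ⊕ l' ≃ m) :
    ↥(Matrix.symplecticGroup l R) × ↥(Matrix.symplecticGroup l' R) →* ↥(Matrix.symplecticGroup m R) where
  toFun p := ⟨reindexAlgEquiv R R (shuffle e) (fromBlocks (p.1 : Matrix (l ⊕ l) (l ⊕ l) R) 0 0 (p.2 : Matrix (l' ⊕ l') (l' ⊕ l') R)),
    reindex_mem e (by
      simp [fromBlocks_transpose, fromBlocks_multiply, SymplecticGroup.mem_iff.1 p.1.2, SymplecticGroup.mem_iff.1 p.2.2])⟩
  map_one' := Subtype.ext (by simp [fromBlocks_one])
  map_mul' p r := Subtype.ext (by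
    simp only [Submonoid.coe_mul, Prod.fst_mul, Prod.snd_mul]
    rw [← map_mul, fromBlocks_multiply]
    simp)

theorem blk_injective (e : l ⊕ l' ≃ m) : Function.Injective (blk (R := R) e) := by
  intro p r h
  have h1 := (reindexAlgEquiv R R (shuffle e)).injective (congrArg Subtype.val h)
  obtain ⟨h11, -, -, h22⟩ := fromBlocks_inj.1 h1
  exact Prod.ext (Subtype.ext h11) (Subtype.ext h22)

theorem exists_swap (e : l ⊕ l ≃ m) : ∃ s : ↥(Matrix.symplecticGroup m R), s * s = 1 ∧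
    ∀ a b, s * blk e (a, b) = blk e (b, a) * s := by
  refine ⟨⟨reindexAlgEquiv R R (shuffle e) (fromBlocks 0 1 1 0), reindex_mem e (by
    simp [fromBlocks_transpose, fromBlocks_multiply])⟩, Subtype.ext ?_, fun a b => Subtype.ext ?_⟩
  · rw [Submonoid.coe_mul, ← map_mul]
    simp [fromBlocks_multiply, fromBlocks_one]
  · simp only [blk, Submonoid.coe_mul, MonoidHom.coe_mk, OneHom.coe_mk]
    rw [← map_mul, ← map_mul, fromBlocks_multiply, fromBlocks_multiply]
    simp

theorem map_derivedSeries_commutator_le {G : Type*} [Group G] (i : ℕ) :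
    (derivedSeries (commutator G) i).map (commutator G).subtype ≤ derivedSeries G (i + 1) := by
  induction i with
  | zero => rw [derivedSeries_zero, ← MonoidHom.range_eq_map, Subgroup.range_subtype, derivedSeries_one]
  | succ i ih =>
    rw [derivedSeries_succ (commutator G) i, Subgroup.map_commutator, derivedSeries_succ G (i + 1)]
    exact Subgroup.commutator_mono ih ih

/-- Wreathing with a group of order two raises the derived length of a 2-group. -/
theorem exists_wreath_two {H G : Type*} [Group H] [Group G] (D : H × H →* G) (hD : Function.Injective D)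
    (s : G) (hs : s * s = 1) (hsD : ∀ a b, s * D (a, b) = D (b, a) * s) (P : Subgroup H) (hP : IsPGroup 2 P)
    (i : ℕ) (hi : derivedSeries P i ≠ ⊥) :
    ∃ P' : Subgroup G, IsPGroup 2 P' ∧ derivedSeries P' (i + 1) ≠ ⊥ := by
  let B : Subgroup G := (P.prod P).map D
  have hB : IsPGroup 2 B := by
    refine IsPGroup.map ?_ D
    rintro ⟨⟨a, b⟩, ha, hb⟩
    obtain ⟨j, hj⟩ := hP ⟨a, ha⟩
    obtain ⟨k, hk⟩ := hP ⟨b, hb⟩
    rw [Subtype.ext_iff] at hj hk
    refine ⟨j + k, Subtype.ext (Prod.ext ?_ ?_)⟩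
    · show a ^ 2 ^ (j + k) = 1
      rw [pow_add, pow_mul]; simp at hj; rw [hj, one_pow]
    · show b ^ 2 ^ (j + k) = 1
      rw [pow_add, mul_comm, pow_mul]; simp at hk; rw [hk, one_pow]
  have hS : IsPGroup 2 (Subgroup.zpowers s) := by
    rintro ⟨_, z, rfl⟩
    refine ⟨1, Subtype.ext ?_⟩
    show (s ^ z) ^ (2 ^ 1) = 1
    rw [pow_one, ← zpow_natCast (s ^ z) 2, ← _root_.zpow_mul, mul_comm, _root_.zpow_mul, zpow_natCast, pow_two, hs, _root_.one_zpow]
  have hconj : ∀ b ∈ B, s * b * s⁻¹ ∈ B := by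
    rintro _ ⟨⟨a, b⟩, ⟨ha, hb⟩, rfl⟩
    exact ⟨(b, a), ⟨hb, ha⟩, by rw [hsD]; group⟩
  have hsinv : s⁻¹ = s := inv_eq_of_mul_eq_one_right hs
  have hnorm : Subgroup.zpowers s ≤ Subgroup.normalizer B := by
    rw [Subgroup.zpowers_le, Subgroup.mem_normalizer_iff]
    intro b
    refine ⟨hconj b, fun h => ?_⟩
    have := hconj _ h
    simp only [hsinv] at this
    rw [← mul_assoc, ← mul_assoc, hs, one_mul, mul_assoc, hs, mul_one] at this
    exact this
  refine ⟨B ⊔ Subgroup.zpowers s, hB.to_sup_of_normal_left' hS hnorm, fun hbot => hi ?_⟩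
  set P' := B ⊔ Subgroup.zpowers s
  let ι : ↥P × ↥P →* ↥P' :=
    (D.comp (P.subtype.prodMap P.subtype)).codRestrict P' fun x =>
      Subgroup.mem_sup_left ⟨((x.1 : H), (x.2 : H)), ⟨x.1.2, x.2.2⟩, rfl⟩
  have hι : Function.Injective ι := by
    intro x y h
    have := hD (congrArg Subtype.val h)
    simp [Prod.ext_iff] at this
    exact Prod.ext this.1 this.2
  let s' : ↥P' := ⟨s, Subgroup.mem_sup_right (Subgroup.mem_zpowers s)⟩
  let H2 : Subgroup (↥P × ↥P) := (commutator ↥P').comap ι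
  let f : ↥H2 →* ↥P := (MonoidHom.fst ↥P ↥P).comp H2.subtype
  have hf : Function.Surjective f := by
    intro a
    refine ⟨⟨(a, a⁻¹), ?_⟩, rfl⟩
    have hc : ι (a, a⁻¹) = ⁅ι (a, 1), s'⁆ := by
      refine Subtype.ext ?_
      have h1 : s * (D ((a : H), (1 : H)))⁻¹ * s⁻¹ = D ((1 : H), (a : H)⁻¹) := by
        rw [← map_inv, Prod.inv_mk, inv_one, hsD]; group
      show D ((a : H), ((a⁻¹ : ↥P) : H)) = D ((a : H), (1 : H)) * s * (D ((a : H), (1 : H)))⁻¹ * s⁻¹
      rw [mul_assoc (D ((a : H), (1 : H))), mul_assoc (D ((a : H), (1 : H))), h1, ← map_mul]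
      simp
    show ι (a, a⁻¹) ∈ commutator ↥P'
    rw [hc, commutator_def]
    exact Subgroup.commutator_mem_commutator (Subgroup.mem_top _) (Subgroup.mem_top _)
  let g : ↥H2 →* ↥(commutator ↥P') := (ι.comp H2.subtype).codRestrict _ fun x => x.2
  rw [eq_bot_iff]
  intro a ha
  obtain ⟨x, hx, rfl⟩ := derivedSeries_le_map_derivedSeries hf i ha
  have h1 : (g x : ↥P') ∈ derivedSeries ↥P' (i + 1) :=
    map_derivedSeries_commutator_le i ⟨g x, map_derivedSeries_le_derivedSeries g i ⟨x, hx, rfl⟩, rfl⟩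
  rw [hbot, Subgroup.mem_bot] at h1
  have h2 : (x : ↥P × ↥P) = 1 := hι (h1.trans (map_one ι).symm)
  rw [Subgroup.mem_bot]
  show ((x : ↥P × ↥P)).1 = 1
  rw [h2]; rfl

variable {F : Type*} [Field F] [Fintype F]

/-- A quaternion subgroup of `Sp₂`. -/
theorem exists_quaternion (h2 : (2 : F) ≠ 0) :
    ∃ P : Subgroup ↥(Matrix.symplecticGroup (Fin 1) F), IsPGroup 2 P ∧ derivedSeries P 1 ≠ ⊥ := by
  obtain ⟨a, b, hab⟩ := CfsgLib.FormDiscr.exists_rep_one h2 (a := (-1 : F)) (b := -1) (by simp) (by simp)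
  let I : ↥(Matrix.symplecticGroup (Fin 1) F) := SymplecticGroup.symJ (l := Fin 1) (R := F)
  have hjmem : fromBlocks (a • (1 : Matrix (Fin 1) (Fin 1) F)) (b • 1) (b • 1) ((-a) • 1) ∈
      Matrix.symplecticGroup (Fin 1) F := by
    rw [SymplecticGroup.mem_iff, Matrix.J, fromBlocks_transpose, fromBlocks_multiply, fromBlocks_multiply]
    ext i j
    rcases i with i | i <;> rcases j with j | j <;> simp [Subsingleton.elim i j] <;>
      first | ring1 | linear_combination hab | linear_combination -hab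
  let j : ↥(Matrix.symplecticGroup (Fin 1) F) := ⟨_, hjmem⟩
  let N : ↥(Matrix.symplecticGroup (Fin 1) F) := ⟨-1, by rw [SymplecticGroup.mem_iff]; simp⟩
  have hI : I * I = N := Subtype.ext (by
    show Matrix.J (Fin 1) F * Matrix.J (Fin 1) F = -1
    simp [Matrix.J, fromBlocks_multiply, ← fromBlocks_one, fromBlocks_neg])
  have hj : j * j = N := Subtype.ext (by
    show fromBlocks (a • (1 : Matrix (Fin 1) (Fin 1) F)) (b • 1) (b • 1) ((-a) • 1) * fromBlocks (a • 1) (b • 1) (b • 1) ((-a) • 1) = -1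
    rw [fromBlocks_multiply, ← fromBlocks_one, fromBlocks_neg]
    ext i k
    rcases i with i | i <;> rcases k with k | k <;> simp [Subsingleton.elim i k] <;>
      first | ring1 | linear_combination hab | linear_combination -hab)
  have hN : N * N = 1 := Subtype.ext (by show (-1 : Matrix (Fin 1 ⊕ Fin 1) (Fin 1 ⊕ Fin 1) F) * -1 = 1; simp)
  have hji : j * I = N * (I * j) := Subtype.ext (by
    show fromBlocks (a • (1 : Matrix (Fin 1) (Fin 1) F)) (b • 1) (b • 1) ((-a) • 1) * Matrix.J (Fin 1) F =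
      -1 * (Matrix.J (Fin 1) F * fromBlocks (a • 1) (b • 1) (b • 1) ((-a) • 1))
    rw [Matrix.J, fromBlocks_multiply, fromBlocks_multiply, neg_one_mul, fromBlocks_neg]
    ext i k
    rcases i with i | i <;> rcases k with k | k <;> simp [Subsingleton.elim i k])
  have hI4 : I ^ 4 = 1 := by rw [show I ^ 4 = (I * I) * (I * I) by simp only [pow_succ, pow_zero, one_mul, mul_assoc], hI, hN]
  have hj4 : j ^ 4 = 1 := by rw [show j ^ 4 = (j * j) * (j * j) by simp only [pow_succ, pow_zero, one_mul, mul_assoc], hj, hN]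
  have hIinv : I⁻¹ = N * I := inv_eq_of_mul_eq_one_left (by rw [mul_assoc, hI, hN])
  have hconj : j * I * j⁻¹ = I⁻¹ := by rw [hji, hIinv]; group
  have hnorm : Subgroup.zpowers j ≤ Subgroup.normalizer (Subgroup.zpowers I) := by
    rw [Subgroup.zpowers_le, Subgroup.mem_normalizer_iff]
    have key : ∀ x ∈ Subgroup.zpowers I, j * x * j⁻¹ ∈ Subgroup.zpowers I ∧ j⁻¹ * x * j ∈ Subgroup.zpowers I := by
      rintro _ ⟨z, rfl⟩
      constructor
      · refine ⟨-z, ?_⟩
        show I ^ (-z) = _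
        rw [← conj_zpow, hconj, _root_.inv_zpow', ]
      · refine ⟨-z, ?_⟩
        show I ^ (-z) = _
        have : j⁻¹ * I * j = I⁻¹ := by
          have h := congrArg (fun x => (j⁻¹ * x * j)⁻¹) hconj
          simpa [mul_assoc] using h.symm
        calc I ^ (-z) = (j⁻¹ * I * j⁻¹⁻¹) ^ z := by rw [inv_inv, this, _root_.inv_zpow']
          _ = j⁻¹ * I ^ z * j := by rw [conj_zpow, inv_inv]
    intro x
    refine ⟨fun h => (key x h).1, fun h => ?_⟩
    have := (key _ h).2
    simpa [mul_assoc] using this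
  have hp : ∀ {x : ↥(Matrix.symplecticGroup (Fin 1) F)}, x ^ 4 = 1 → IsPGroup 2 (Subgroup.zpowers x) := by
    rintro x hx ⟨_, z, rfl⟩
    refine ⟨2, Subtype.ext ?_⟩
    show (x ^ z) ^ (2 ^ 2) = 1
    rw [← zpow_natCast (x ^ z), ← _root_.zpow_mul, mul_comm, _root_.zpow_mul, zpow_natCast, show (2 : ℕ) ^ 2 = 4 from rfl, hx, _root_.one_zpow]
  refine ⟨Subgroup.zpowers I ⊔ Subgroup.zpowers j, (hp hI4).to_sup_of_normal_left' (hp hj4) hnorm, fun hbot => ?_⟩
  set P := Subgroup.zpowers I ⊔ Subgroup.zpowers j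
  let I' : ↥P := ⟨I, Subgroup.mem_sup_left (Subgroup.mem_zpowers I)⟩
  let j' : ↥P := ⟨j, Subgroup.mem_sup_right (Subgroup.mem_zpowers j)⟩
  have hmem : ⁅j', I'⁆ ∈ derivedSeries ↥P 1 := by
    rw [derivedSeries_one, commutator_def]
    exact Subgroup.commutator_mem_commutator (Subgroup.mem_top _) (Subgroup.mem_top _)
  rw [hbot, Subgroup.mem_bot] at hmem
  have h1 : j * I * j⁻¹ * I⁻¹ = 1 := congrArg Subtype.val hmem
  rw [hconj, ← _root_.mul_inv_rev, hI, inv_eq_one] at h1
  have := congrArg (fun x : ↥(Matrix.symplecticGroup (Fin 1) F) =>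
    (x : Matrix (Fin 1 ⊕ Fin 1) (Fin 1 ⊕ Fin 1) F) (Sum.inl 0) (Sum.inl 0)) h1
  simp [N] at this
  exact h2 (by linear_combination -this)

/-- A 2-subgroup of `Sp_(2^(j+1))` of derived length at least `j + 2`. -/
theorem exists_tower (h2 : (2 : F) ≠ 0) (j : ℕ) :
    ∃ P : Subgroup ↥(Matrix.symplecticGroup (Fin (2 ^ j)) F), IsPGroup 2 P ∧ derivedSeries P (j + 1) ≠ ⊥ := by
  induction j with
  | zero => exact exists_quaternion h2
  | succ j ih =>
    obtain ⟨P, hP, hd⟩ := ih
    let e : Fin (2 ^ j) ⊕ Fin (2 ^ j) ≃ Fin (2 ^ (j + 1)) := finSumFinEquiv.trans (finCongr (by ring))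
    obtain ⟨s, hs, hsD⟩ := exists_swap (R := F) e
    exact exists_wreath_two (blk e) (blk_injective e) s hs hsD P hP (j + 1) hd

end CfsgLib.SpSum
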